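import Mathlib.GroupTheory.Schreier
import Mathlib.GroupTheory.FiniteAbelian.Basic
import Mathlib.GroupTheory.QuotientGroup.Basic

/-!
Baer's theorem: if two normal subgroups have only finitely many commutators, their commutator is finite.
-/

open scoped commutatorElement
set_option linter.style.haveILetI false

namespace Groth.Agent.GrpFin87

variable {Q : Type*} [Group Q]

/-- The set of commutators of two subgroups. -/
def cset (A B : Subgroup Q) : Set Q := {g | ∃ a ∈ A, ∃ b ∈ B, ⁅a, b⁆ = g}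

theorem commutator_eq_closure (A B : Subgroup Q) : ⁅A, B⁆ = Subgroup.closure (cset A B) :=
  Subgroup.commutator_def A B

theorem finite_closure_of_commute (s : Set Q) (hs : s.Finite) (hc : ∀ x ∈ s, ∀ y ∈ s, Commute x y)
    (ho : ∀ x ∈ s, IsOfFinOrder x) : Finite (Subgroup.closure s) := by
  have h1 : Subgroup.closure s ≤ Subgroup.centralizer s :=
    (Subgroup.closure_le _).2 fun x hx => Subgroup.mem_centralizer_iff.2 fun y hy => hc y hy x hx
  have h2 : Subgroup.closure s ≤ Subgroup.centralizer (Subgroup.closure s : Set Q) :=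
    (Subgroup.closure_le _).2 fun x hx => Subgroup.mem_centralizer_iff.2 fun y hy =>
      (Subgroup.mem_centralizer_iff.1 (h1 hy) x hx).symm
  letI : CommGroup (Subgroup.closure s) :=
    { (inferInstance : Group (Subgroup.closure s)) with
      mul_comm := fun x y => Subtype.ext (Subgroup.mem_centralizer_iff.1 (h2 y.2) x x.2) }
  haveI : Group.FG (Subgroup.closure s) :=
    (Group.fg_iff_subgroup_fg _).2 ((Subgroup.fg_iff _).2 ⟨s, rfl, hs⟩)
  refine CommGroup.finite_of_fg_isMulTorsion _ fun x => ?_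
  rw [← Submonoid.isOfFinOrder_coe (H := (Subgroup.closure s).toSubmonoid)]
  obtain ⟨x, hx⟩ := x
  show IsOfFinOrder x
  induction hx using Subgroup.closure_induction with
  | mem y hy => exact ho y hy
  | one => exact IsOfFinOrder.one
  | mul y z hy hz h h' =>
    exact Commute.isOfFinOrder_mul (Subgroup.mem_centralizer_iff.1 (h2 hz) y hy) h h'
  | inv y _ h => exact h.inv

theorem finite_of_map {Q' : Type*} [Group Q'] (f : Q →* Q') (H : Subgroup Q) (hk : (f.ker : Set Q).Finite)
    (hm : (f '' (H : Set Q)).Finite) : (H : Set Q).Finite := by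
  choose g hg using fun y : {y // y ∈ f '' (H : Set Q)} => y.2
  haveI := hm.to_subtype
  refine (Set.finite_iUnion fun y => hk.image (g y * ·)).subset fun x hx => ?_
  refine Set.mem_iUnion.2 ⟨⟨f x, x, hx, rfl⟩, (g ⟨f x, x, hx, rfl⟩)⁻¹ * x, ?_, mul_inv_cancel_left _ _⟩
  show f _ = 1
  rw [map_mul, map_inv, (hg ⟨f x, x, hx, rfl⟩).2, inv_mul_cancel]

theorem cset_map {Q' : Type*} [Group Q'] (f : Q →* Q') (A B : Subgroup Q) :
    cset (A.map f) (B.map f) = f '' cset A B := by
  ext g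
  constructor
  · rintro ⟨_, ⟨a, ha, rfl⟩, _, ⟨b, hb, rfl⟩, rfl⟩
    exact ⟨_, ⟨a, ha, b, hb, rfl⟩, map_commutatorElement f a b⟩
  · rintro ⟨_, ⟨a, ha, b, hb, rfl⟩, rfl⟩
    exact ⟨f a, ⟨a, ha, rfl⟩, f b, ⟨b, hb, rfl⟩, (map_commutatorElement f a b).symm⟩

theorem isOfFinOrder_of_pow_mem {s : Set Q} (hs : s.Finite) {x : Q} (h : ∀ n : ℕ, x ^ n ∈ s) : IsOfFinOrder x :=
  finite_powers.1 (hs.subset (by rintro _ ⟨n, rfl⟩; exact h n))

theorem baer_central (A B : Subgroup Q) [A.Normal] [B.Normal] (hS : (cset A B).Finite)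
    (hc : ∀ a ∈ A, ∀ d ∈ ⁅A, B⁆, Commute a d) : ((⁅A, B⁆ : Subgroup Q) : Set Q).Finite := by
  have hSD : cset A B ⊆ ((⁅A, B⁆ : Subgroup Q) : Set Q) := by
    rintro _ ⟨a, ha, b, hb, rfl⟩
    exact Subgroup.commutator_mem_commutator ha hb
  rw [commutator_eq_closure, Set.finite_coe_iff.symm]
  refine finite_closure_of_commute _ hS (fun x hx y hy => hc x (Subgroup.commutator_le_left A B (hSD hx)) y (hSD hy)) ?_
  rintro _ ⟨a, ha, b, hb, rfl⟩
  refine isOfFinOrder_of_pow_mem hS fun n => ⟨a ^ n, pow_mem ha n, b, hb, ?_⟩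
  induction n with
  | zero => simp
  | succ n ih =>
    have h := hc a ha _ (hSD ⟨a ^ n, pow_mem ha n, b, hb, rfl⟩)
    calc ⁅a ^ (n + 1), b⁆ = a * ⁅a ^ n, b⁆ * a⁻¹ * ⁅a, b⁆ := by
          rw [pow_succ']; simp only [commutatorElement_def]; group
      _ = ⁅a ^ n, b⁆ * ⁅a, b⁆ := by rw [h.eq, mul_inv_cancel_right]
      _ = ⁅a, b⁆ ^ (n + 1) := by rw [ih, pow_succ]

theorem baer_comm (A B : Subgroup Q) [A.Normal] [B.Normal] (hS : (cset A B).Finite)
    (hc : ∀ x ∈ ⁅A, B⁆, ∀ y ∈ ⁅A, B⁆, Commute x y) : ((⁅A, B⁆ : Subgroup Q) : Set Q).Finite := by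
  let T : Set Q := {t | ∃ q, (q ∈ A ∨ q ∈ B) ∧ ∃ d ∈ ⁅A, B⁆, ⁅q, d⁆ = t}
  have hTfin : T.Finite := by
    refine (hS.union (hS.image (·⁻¹))).subset ?_
    rintro _ ⟨q, hq, d, hd, rfl⟩
    rcases hq with hq | hq
    · exact Or.inl ⟨q, hq, d, Subgroup.commutator_le_right A B hd, rfl⟩
    · exact Or.inr ⟨⁅d, q⁆, ⟨d, Subgroup.commutator_le_left A B hd, q, hq, rfl⟩, commutatorElement_inv d q⟩
  have hTD : T ⊆ ((⁅A, B⁆ : Subgroup Q) : Set Q) := by
    rintro _ ⟨q, -, d, hd, rfl⟩
    rw [commutatorElement_def]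
    exact mul_mem ((inferInstance : (⁅A, B⁆ : Subgroup Q).Normal).conj_mem d hd q) (inv_mem hd)
  have hTord : ∀ t ∈ T, IsOfFinOrder t := by
    rintro _ ⟨q, hq, d, hd, rfl⟩
    refine isOfFinOrder_of_pow_mem hTfin fun n => ⟨q, hq, d ^ n, pow_mem hd n, ?_⟩
    induction n with
    | zero => simp
    | succ n ih =>
      have h := hc _ (pow_mem hd n) _ (hTD ⟨q, hq, d, hd, rfl⟩)
      calc ⁅q, d ^ (n + 1)⁆ = ⁅q, d ^ n⁆ * (d ^ n * ⁅q, d⁆ * (d ^ n)⁻¹) := by
            rw [pow_succ]; simp only [commutatorElement_def]; group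
        _ = ⁅q, d ^ n⁆ * ⁅q, d⁆ := by rw [h.eq, mul_inv_cancel_right]
        _ = ⁅q, d⁆ ^ (n + 1) := by rw [ih, pow_succ]
  let E := Subgroup.closure T
  haveI : E.Normal := ⟨fun n hn g => by
    induction hn using Subgroup.closure_induction with
    | mem t ht =>
      obtain ⟨q, hq, d, hd, rfl⟩ := ht
      refine Subgroup.subset_closure ⟨g * q * g⁻¹, ?_, g * d * g⁻¹, Subgroup.Normal.conj_mem inferInstance d hd g, ?_⟩
      · exact hq.imp (fun h => Subgroup.Normal.conj_mem inferInstance q h g)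
          (fun h => Subgroup.Normal.conj_mem inferInstance q h g)
      · simp only [commutatorElement_def]; group
    | one => rw [mul_one, mul_inv_cancel]; exact one_mem _
    | mul x y _ _ hx hy =>
      rw [show g * (x * y) * g⁻¹ = (g * x * g⁻¹) * (g * y * g⁻¹) by group]; exact mul_mem hx hy
    | inv x _ hx => rw [show g * x⁻¹ * g⁻¹ = (g * x * g⁻¹)⁻¹ by group]; exact inv_mem hx⟩
  let π := QuotientGroup.mk' E
  haveI : (A.map π).Normal := Subgroup.Normal.map inferInstance π (QuotientGroup.mk'_surjective E)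
  haveI : (B.map π).Normal := Subgroup.Normal.map inferInstance π (QuotientGroup.mk'_surjective E)
  refine finite_of_map π _ ?_ ?_
  · rw [QuotientGroup.ker_mk', Set.finite_coe_iff.symm]
    exact finite_closure_of_commute T hTfin (fun x hx y hy => hc x (hTD hx) y (hTD hy)) hTord
  · rw [← Subgroup.coe_map, Subgroup.map_commutator]
    refine baer_central _ _ (by rw [cset_map]; exact hS.image π) ?_
    rw [← Subgroup.map_commutator]
    rintro _ ⟨a, ha, rfl⟩ _ ⟨d, hd, rfl⟩
    rw [← commutatorElement_eq_one_iff_commute, ← map_commutatorElement]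
    exact (QuotientGroup.eq_one_iff _).2 (Subgroup.subset_closure ⟨a, Or.inl ha, d, hd, rfl⟩)

/-- Baer's theorem. -/
theorem baer (A B : Subgroup Q) [A.Normal] [B.Normal] (hS : (cset A B).Finite) : ((⁅A, B⁆ : Subgroup Q) : Set Q).Finite := by
  let D := ⁅A, B⁆
  haveI : Finite (commutatorSet D) := by
    refine Set.finite_coe_iff.2 ((hS.preimage Subtype.val_injective.injOn).subset ?_)
    rintro _ ⟨x, y, rfl⟩
    exact ⟨x, Subgroup.commutator_le_left A B x.2, y, Subgroup.commutator_le_right A B y.2,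
      (map_commutatorElement D.subtype x y).symm⟩
  let π := QuotientGroup.mk' ⁅D, D⁆
  haveI : (A.map π).Normal := Subgroup.Normal.map inferInstance π (QuotientGroup.mk'_surjective _)
  haveI : (B.map π).Normal := Subgroup.Normal.map inferInstance π (QuotientGroup.mk'_surjective _)
  refine finite_of_map π _ ?_ ?_
  · rw [QuotientGroup.ker_mk', ← Subgroup.map_subtype_commutator, Subgroup.coe_map]
    exact (Set.finite_coe_iff.1 (inferInstance : Finite (_root_.commutator D))).image _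
  · rw [← Subgroup.coe_map, Subgroup.map_commutator]
    refine baer_comm _ _ (by rw [cset_map]; exact hS.image π) ?_
    rw [← Subgroup.map_commutator]
    rintro _ ⟨x, hx, rfl⟩ _ ⟨y, hy, rfl⟩
    rw [← commutatorElement_eq_one_iff_commute, ← map_commutatorElement]
    exact (QuotientGroup.eq_one_iff _).2 (Subgroup.commutator_mem_commutator hx hy)

end Groth.Agent.GrpFin87
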